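import Groth.Agent.RegEmbed.Local
import Groth.Agent.PerfMor.Surj
import Groth.Agent.S18944
import Groth.Agent.Vasconcelos.Global
import Groth.Prelude.Def_Mor2
import Mathlib.AlgebraicGeometry.Noetherian

/-!
Closed immersions with regular local ring: regular immersion iff regular ambient local ring.
-/

set_option autoImplicit false
set_option linter.style.haveILetI false
universe u

open CategoryTheory AlgebraicGeometry RingTheory.Sequence

namespace Groth.Agent.RegEmbed

theorem exists_spread {R : Type u} [CommRing R] [IsNoetherianRing R] (p : Ideal R) [p.IsPrime] (I : Ideal R)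
    (S : Type u) [CommRing S] [Algebra R S] [IsLocalization.AtPrime S p] (l : List S) (hl : IsWeaklyRegular S l)
    (hI : I.map (algebraMap R S) = Ideal.ofList l) :
    ∃ g ∉ p, ∀ (T : Type u) [CommRing T] [Algebra R T] [IsLocalization.Away g T],
      ∃ rs : List T, IsWeaklyRegular T rs ∧ I.map (algebraMap R T) = Ideal.ofList rs := by
  choose num den hnum using fun r : S => (IsLocalization.surj p.primeCompl r : ∃ x : R × p.primeCompl,
    r * algebraMap R S x.2 = algebraMap R S x.1) |> fun ⟨x, hx⟩ =>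
      (⟨x.1, x.2, hx⟩ : ∃ (a : R) (s : p.primeCompl), r * algebraMap R S s = algebraMap R S a)
  let as := l.map num
  have hf : ∀ r : S, ∃ u : S, IsUnit u ∧ algebraMap R S (num r) = u * r := fun r =>
    ⟨_, IsLocalization.map_units S (den r), by rw [← hnum, mul_comm]⟩
  have hasmap : as.map (algebraMap R S) = l.map fun r => algebraMap R S (num r) := List.map_map
  have hI' : (Ideal.ofList as).map (algebraMap R S) = I.map (algebraMap R S) := by
    rw [Ideal.map_ofList, hasmap, Vasconcelos.ofList_map_unit _ hf, hI]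
  let e : S ≃ₐ[R] Localization.AtPrime p := IsLocalization.algEquiv p.primeCompl S _
  have hI'' : (Ideal.ofList as).map (algebraMap R (Localization.AtPrime p)) =
      I.map (algebraMap R (Localization.AtPrime p)) := by
    have h := congrArg (Ideal.map e.toRingEquiv.toRingHom) hI'
    rw [Ideal.map_map, Ideal.map_map, show e.toRingEquiv.toRingHom.comp (algebraMap R S) =
      algebraMap R (Localization.AtPrime p) from RingHom.ext fun a => e.commutes a] at h
    exact h
  have hregp : DepthLib.RegOn p.primeCompl R as := by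
    have h1 : IsWeaklyRegular S as :=
      (isWeaklyRegular_map_algebraMap_iff S S as).1 (hasmap ▸ Vasconcelos.isWeaklyRegular_map_unit _ hf hl)
    refine (isWeaklyRegular_map_algebraMap_iff (Localization p.primeCompl) _ as).2 ?_
    exact (LinearEquiv.isWeaklyRegular_congr
      (IsLocalizedModule.linearEquiv p.primeCompl (Algebra.linearMap R S) (LocalizedModule.mkLinearMap p.primeCompl R)) as).1 h1
  obtain ⟨g₁, hg₁, hT⟩ := Vasconcelos.regOn_spread p as hregp
  obtain ⟨s₁, hs₁, h₁⟩ := Vasconcelos.exists_mul_mem_of_map_le p (Ideal.ofList as) I hI''.le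
  obtain ⟨s₂, hs₂, h₂⟩ := Vasconcelos.exists_mul_mem_of_map_le p I (Ideal.ofList as) hI''.ge
  have hp : p.IsPrime := inferInstance
  refine ⟨g₁ * (s₁ * s₂), fun h => (hp.mem_or_mem h).elim hg₁ fun h => (hp.mem_or_mem h).elim hs₁ hs₂,
    fun T _ _ _ => ?_⟩
  have hle : ∀ (J K : Ideal R) (s : R), s ∣ g₁ * (s₁ * s₂) → (∀ z ∈ J, s * z ∈ K) →
      J.map (algebraMap R T) ≤ K.map (algebraMap R T) := fun J K s hsg h => by
    refine Ideal.map_le_iff_le_comap.2 fun z hz => ?_
    have hu : IsUnit (algebraMap R T s) := isUnit_of_dvd_unit (map_dvd _ hsg)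
      (IsLocalization.map_units T (⟨_, Submonoid.mem_powers (g₁ * (s₁ * s₂))⟩ : Submonoid.powers (g₁ * (s₁ * s₂))))
    rw [Ideal.mem_comap, ← Ideal.unit_mul_mem_iff_mem _ hu, ← map_mul]
    exact Ideal.mem_map_of_mem _ (h z hz)
  refine ⟨as.map (algebraMap R T), ?_, ?_⟩
  · refine (isWeaklyRegular_map_algebraMap_iff T T as).2 ?_
    exact (LinearEquiv.isWeaklyRegular_congr
      (IsLocalizedModule.linearEquiv (Submonoid.powers (g₁ * (s₁ * s₂))) (Algebra.linearMap R T)
        (LocalizedModule.mkLinearMap (Submonoid.powers (g₁ * (s₁ * s₂))) R)) as).2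
      ((isWeaklyRegular_map_algebraMap_iff (Localization (Submonoid.powers (g₁ * (s₁ * s₂)))) _ as).1
        (hT _ ⟨s₁ * s₂, by rw [mul_comm]; exact Submonoid.mem_powers _⟩))
  · rw [← Ideal.map_ofList]
    exact le_antisymm (hle _ _ s₂ (Dvd.dvd.mul_left (dvd_mul_left _ _) _) h₂)
      (hle _ _ s₁ (Dvd.dvd.mul_left (dvd_mul_right _ _) _) h₁)

variable {X Y : Scheme.{u}} (j : Y ⟶ X) [IsClosedImmersion j] (y : Y)

theorem ker_stalkMap (U : X.Opens) (hU : IsAffineOpen U) (hy : j y ∈ U) :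
    RingHom.ker (j.stalkMap y).hom = (RingHom.ker (j.app U).hom).map (X.presheaf.germ U (j y) hy).hom := by
  haveI : IsClosedImmersion (j ∣_ U) := IsZariskiLocalAtTarget.restrict ‹_› U
  obtain ⟨hA, hs⟩ := Groth.Agent.PerfMor.surjective_app_of_restrict j hU
  letI : Algebra Γ(X, U) (X.presheaf.stalk (j y)) := (X.presheaf.germ U (j y) hy).hom.toAlgebra
  letI : Algebra Γ(Y, j ⁻¹ᵁ U) (Y.presheaf.stalk y) := (Y.presheaf.germ (j ⁻¹ᵁ U) y hy).hom.toAlgebra
  haveI : IsLocalization.AtPrime (X.presheaf.stalk (j y)) (hU.primeIdealOf ⟨j y, hy⟩).asIdeal :=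
    hU.isLocalization_stalk ⟨j y, hy⟩
  haveI : IsLocalization.AtPrime (Y.presheaf.stalk y) (hA.primeIdealOf ⟨y, hy⟩).asIdeal :=
    hA.isLocalization_stalk ⟨y, hy⟩
  have key : ∀ r : Γ(X, U), (j.stalkMap y).hom (algebraMap _ (X.presheaf.stalk (j y)) r) =
      algebraMap Γ(Y, j ⁻¹ᵁ U) (Y.presheaf.stalk y) ((j.app U).hom r) :=
    fun r => Scheme.Hom.germ_stalkMap_apply j U y hy r
  refine le_antisymm (fun x hx => ?_) (Ideal.map_le_iff_le_comap.2 fun r hr => ?_)
  · obtain ⟨⟨r, s⟩, hx'⟩ := IsLocalization.surj (hU.primeIdealOf ⟨j y, hy⟩).asIdeal.primeCompl x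
    have h1 : algebraMap Γ(Y, j ⁻¹ᵁ U) (Y.presheaf.stalk y) ((j.app U).hom r) = 0 := by
      rw [← key, ← hx', map_mul, RingHom.mem_ker.1 hx, zero_mul]
    obtain ⟨t, ht⟩ := (IsLocalization.map_eq_zero_iff (hA.primeIdealOf ⟨y, hy⟩).asIdeal.primeCompl
      (Y.presheaf.stalk y) _).1 h1
    obtain ⟨T, hT⟩ := hs t.1
    have hTr : T * r ∈ RingHom.ker (j.app U).hom := by
      rw [RingHom.mem_ker, map_mul, hT]; exact ht
    have hu : IsUnit (algebraMap Γ(X, U) (X.presheaf.stalk (j y)) T) := by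
      refine IsUnit.of_map (j.stalkMap y).hom _ ?_
      rw [key, hT]
      exact IsLocalization.map_units _ t
    show x ∈ (RingHom.ker (j.app U).hom).map (algebraMap Γ(X, U) (X.presheaf.stalk (j y)))
    rw [← Ideal.unit_mul_mem_iff_mem _ hu, ← Ideal.mul_unit_mem_iff_mem _
      (IsLocalization.map_units (X.presheaf.stalk (j y)) s), mul_assoc, hx', ← map_mul]
    exact Ideal.mem_map_of_mem _ hTr
  · show (j.stalkMap y).hom (algebraMap _ (X.presheaf.stalk (j y)) r) = 0
    rw [key, RingHom.mem_ker.1 hr, map_zero]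

theorem regular_of_regularImmersion [IsLocallyNoetherian X] [IsRegularLocalRing (Y.presheaf.stalk y)]
    (V : X.Opens) (hy : j y ∈ V) (h : Mor2.IsRegularClosedImmersion (j ∣_ V)) :
    IsRegularLocalRing (X.presheaf.stalk (j y)) := by
  obtain ⟨hcl, hloc⟩ := h
  have hr : RegImm.IsRegularImmersion .regular (j ∣_ V) := ⟨inferInstance, fun z => by
    obtain ⟨U, hU, hz, rs, hrs, hk⟩ := hloc z
    exact ⟨⟨U, hU⟩, hz, IsZariskiLocalAtTarget.restrict hcl U, rs, hrs, by rwa [Scheme.Hom.ker_apply] at hk⟩⟩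
  let y' : (j ⁻¹ᵁ V).toScheme := ⟨y, hy⟩
  obtain ⟨rs, hrs, hker⟩ := S18944.result (j ∣_ V) hr y'
  let e := morphismRestrictStalkMap j V y'
  let eL : V.toScheme.presheaf.stalk ((j ∣_ V) y') ≅ X.presheaf.stalk (j y) := Arrow.leftFunc.mapIso e
  let eR : (j ⁻¹ᵁ V).toScheme.presheaf.stalk y' ≅ Y.presheaf.stalk y := Arrow.rightFunc.mapIso e
  haveI : IsRegularLocalRing ((j ⁻¹ᵁ V).toScheme.presheaf.stalk y') :=
    IsRegularLocalRing.of_ringEquiv eR.commRingCatIsoToRingEquiv.symm
  haveI := isRegularLocalRing_of_quotient_list (List.replicate rs.length ⟨()⟩) (V.toScheme.presheaf.stalk ((j ∣_ V) y')) rs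
    (by simp) hrs.toIsWeaklyRegular ((j ⁻¹ᵁ V).toScheme.presheaf.stalk y') ((j ∣_ V).stalkMap y').hom
    ((j ∣_ V).stalkMap_surjective y') hker
  exact IsRegularLocalRing.of_ringEquiv eL.commRingCatIsoToRingEquiv

theorem regularImmersion_of_regular [IsLocallyNoetherian X] [IsRegularLocalRing (Y.presheaf.stalk y)]
    [IsRegularLocalRing (X.presheaf.stalk (j y))] :
    ∃ V : X.Opens, j y ∈ V ∧ Mor2.IsRegularClosedImmersion (j ∣_ V) := by
  obtain ⟨U, hU, hy, -⟩ :=
    exists_isAffineOpen_mem_and_subset (X := X) (U := ⊤) (x := j y) trivial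
  haveI : IsNoetherianRing Γ(X, U) := IsLocallyNoetherian.component_noetherian ⟨U, hU⟩
  let I := RingHom.ker (j.app U).hom
  let φ := (j.stalkMap y).hom
  haveI : IsRegularLocalRing (X.presheaf.stalk (j y) ⧸ RingHom.ker φ) :=
    IsRegularLocalRing.of_ringEquiv (RingHom.quotientKerEquivOfSurjective (SurjectiveOnStalks.stalkMap_surjective (f := j) y)).symm
  obtain ⟨l, hl, hlI⟩ := exists_weaklyRegular_of_regular_quotient (RingHom.ker φ) inferInstance
  letI : Algebra Γ(X, U) (X.presheaf.stalk (j y)) := (X.presheaf.germ U (j y) hy).hom.toAlgebra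
  haveI : IsLocalization.AtPrime (X.presheaf.stalk (j y)) (hU.primeIdealOf ⟨j y, hy⟩).asIdeal :=
    hU.isLocalization_stalk ⟨j y, hy⟩
  obtain ⟨g, hg, hT⟩ := exists_spread (hU.primeIdealOf ⟨j y, hy⟩).asIdeal I (X.presheaf.stalk (j y)) l hl
    ((ker_stalkMap j y U hU hy).symm.trans hlI)
  let W := X.basicOpen g
  have hyW : j y ∈ W := by
    rw [X.mem_basicOpen g (j y) hy]
    exact IsLocalization.map_units (X.presheaf.stalk (j y)) (⟨g, hg⟩ : (hU.primeIdealOf ⟨j y, hy⟩).asIdeal.primeCompl)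
  letI : Algebra Γ(X, U) Γ(X, W) := (X.presheaf.map (homOfLE (X.basicOpen_le g)).op).hom.toAlgebra
  haveI : IsLocalization.Away g Γ(X, W) := hU.isLocalization_basicOpen g
  obtain ⟨rs, hrs, hI⟩ := hT Γ(X, W)
  have hkW : RingHom.ker (j.app W).hom = Ideal.ofList rs := by
    rw [← hI]
    have h := j.ker.map_ideal_basicOpen ⟨U, hU⟩ g
    rw [Scheme.Hom.ker_apply, Scheme.Hom.ker_apply] at h
    exact h.symm
  have key : ∀ W' : X.Opens, W' = W → ∃ rs : List Γ(X, W'), IsRegular Γ(X, W') rs ∧ RingHom.ker (j.app W').hom = Ideal.ofList rs := by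
    intro W' hW'
    subst hW'
    refine ⟨rs, ⟨hrs, ?_⟩, hkW⟩
    intro h
    rw [smul_eq_mul, Ideal.mul_top, ← hkW] at h
    have h1 : (j.app W).hom 1 = 0 := RingHom.mem_ker.1 (h ▸ Submodule.mem_top)
    rw [map_one] at h1
    have h2 := congrArg (Y.presheaf.germ (j ⁻¹ᵁ W) y hyW).hom h1
    rw [map_one, map_zero] at h2
    exact one_ne_zero h2
  refine ⟨W, hyW, IsZariskiLocalAtTarget.restrict ‹_› W, fun z => ?_⟩
  haveI : IsAffine W.toScheme := hU.basicOpen g
  obtain ⟨rs', hrs', hk'⟩ := key (W.ι ''ᵁ ⊤) (W.ι_image_top)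
  refine ⟨⊤, isAffineOpen_top W.toScheme, trivial, rs', hrs', ?_⟩
  haveI : IsClosedImmersion (j ∣_ W) := IsZariskiLocalAtTarget.restrict ‹_› W
  rw [Scheme.Hom.ker_apply, morphismRestrict_app]
  refine Eq.trans ?_ hk'
  ext a
  show (Y.presheaf.map (eqToHom (image_morphismRestrict_preimage j W ⊤)).op).hom ((j.app (W.ι ''ᵁ ⊤)).hom a) = 0 ↔
    (j.app (W.ι ''ᵁ ⊤)).hom a = 0
  refine map_eq_zero_iff _ (ConcreteCategory.bijective_of_isIso
    (Y.presheaf.map (eqToHom (image_morphismRestrict_preimage j W ⊤)).op)).1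

end Groth.Agent.RegEmbed
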