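import Groth.Agent.CotLib.RegSeq
import Groth.Agent.S0560
import Mathlib.RingTheory.Regular.RegularSequence

/-!
Regular local rings and regular sequences.
-/

set_option autoImplicit false
set_option linter.style.haveILetI false
universe u

open RingTheory.Sequence IsLocalRing
open scoped Pointwise

namespace Groth.Agent.RegEmbed

/-- A local ring with a regular quotient by a regular sequence is regular. -/
theorem isRegularLocalRing_of_quotient_list : ∀ (rs : List (PLift Unit)) (A : Type u) [CommRing A] [IsLocalRing A]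
    [IsNoetherianRing A] (l : List A), l.length = rs.length → IsWeaklyRegular A l →
    ∀ (B : Type u) [CommRing B] [IsRegularLocalRing B] (φ : A →+* B), Function.Surjective φ →
      RingHom.ker φ = Ideal.ofList l → IsRegularLocalRing A := by
  intro rs
  induction rs with
  | nil =>
    intro A _ _ _ l hl _ B _ _ φ hφ hker
    obtain rfl := List.length_eq_zero_iff.1 hl
    rw [Ideal.ofList_nil] at hker
    exact IsRegularLocalRing.of_ringEquiv
      (RingEquiv.ofBijective φ ⟨(RingHom.injective_iff_ker_eq_bot φ).2 hker, hφ⟩).symm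
  | cons _ rs ih =>
    intro A _ _ _ l hl hreg B _ _ φ hφ hker
    obtain ⟨x, xs, rfl⟩ := List.exists_cons_of_length_eq_add_one hl
    rw [isWeaklyRegular_cons_iff] at hreg
    have hxm : x ∈ maximalIdeal A := by
      refine le_maximalIdeal (RingHom.ker_ne_top φ) ?_
      rw [hker]; exact Ideal.subset_span List.mem_cons_self
    let q : A →+* A ⧸ Ideal.span {x} := Ideal.Quotient.mk _
    have hle : Ideal.span {x} ≤ RingHom.ker φ := by rw [hker, Ideal.ofList_cons]; exact le_sup_left
    haveI : Nontrivial (A ⧸ Ideal.span {x}) := Ideal.Quotient.nontrivial_iff.2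
      (ne_top_of_le_ne_top (maximalIdeal.isMaximal A).ne_top ((Ideal.span_singleton_le_iff_mem _).2 hxm))
    haveI : IsLocalRing (A ⧸ Ideal.span {x}) := IsLocalRing.of_surjective' q Ideal.Quotient.mk_surjective
    let ψ : A ⧸ Ideal.span {x} →+* B := Ideal.Quotient.lift _ φ fun a ha => RingHom.mem_ker.1 (hle ha)
    have hψ : RingHom.ker ψ = Ideal.ofList (xs.map q) := by
      have h : (RingHom.ker ψ).comap q = RingHom.ker φ := by
        ext a; rfl
      rw [← Ideal.map_comap_of_surjective q Ideal.Quotient.mk_surjective (RingHom.ker ψ), h, hker, ← Ideal.map_ofList,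
        Ideal.ofList_cons, Ideal.map_sup, Ideal.map_span q {x}, Set.image_singleton,
        show q x = 0 from Ideal.Quotient.eq_zero_iff_mem.2 (Ideal.mem_span_singleton_self x),
        Ideal.span_singleton_zero, bot_sup_eq]
    have hq : IsWeaklyRegular (A ⧸ Ideal.span {x}) (xs.map q) := by
      refine (isWeaklyRegular_map_algebraMap_iff (A ⧸ Ideal.span {x}) (A ⧸ Ideal.span {x}) xs).2 ?_
      refine (LinearEquiv.isWeaklyRegular_congr ?_ xs).1 hreg.2
      exact Submodule.quotEquivOfEq _ _ (by rw [← Submodule.ideal_span_singleton_smul, smul_eq_mul, Ideal.mul_top])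
    haveI := ih (A ⧸ Ideal.span {x}) (xs.map q) (by simpa using hl) hq B ψ
      (Ideal.Quotient.lift_surjective_of_surjective _ _ hφ) hψ
    exact S0560.result A x hxm (mem_nonZeroDivisors_iff.2
      ⟨fun a ha => hreg.1.right_eq_zero_of_smul ha, fun a ha => hreg.1.right_eq_zero_of_smul ((mul_comm x a).trans ha)⟩)

/-- A regular quotient of a regular local ring is cut out by a regular sequence. -/
theorem exists_weaklyRegular_of_regular_quotient {A : Type u} [CommRing A] [IsRegularLocalRing A] (I : Ideal A)
    (hI : IsRegularLocalRing (A ⧸ I)) : ∃ rs : List A, IsWeaklyRegular A rs ∧ I = Ideal.ofList rs := by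
  obtain ⟨rs, hrs, hI'⟩ := CotLib.exists_regStep I hI
  refine ⟨rs, (isWeaklyRegular_iff A rs).2 fun k hk => isSMulRegular_iff_right_eq_zero_of_smul.2 fun y hy => ?_, hI'⟩
  obtain ⟨y, rfl⟩ := Submodule.Quotient.mk_surjective _ y
  rw [← Submodule.Quotient.mk_smul, Submodule.Quotient.mk_eq_zero, smul_eq_mul, smul_eq_mul, Ideal.mul_top] at hy
  rw [Submodule.Quotient.mk_eq_zero, smul_eq_mul, Ideal.mul_top]
  exact hrs k hk y hy

end Groth.Agent.RegEmbed
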